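import Cfsg.Agent.Lib.PSL2.M24Line
import Mathlib.LinearAlgebra.Matrix.GeneralLinearGroup.Card

/-!
A copy of PGL(2,23) from a copy of the projective line group and an outer involution (helper86).

* `exists_pgl` : an embedding of `line` with an involution acting as negation gives PGL(2,23)
-/

set_option autoImplicit false

namespace Cfsg.Agent.J4Type.PGL

open Cfsg Cfsg.Agent.PSL2.M24Line
open scoped Matrix

/-- Negation on the projective line. -/
def neg : Equiv.Perm GolayPt := Equiv.optionCongr (Equiv.neg (ZMod 23))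

theorem neg_mul_neg : neg * neg = 1 := Equiv.ext (by decide +kernel)

theorem neg_conj_tr : neg * tr * neg = tr⁻¹ := by
  rw [← mul_eq_one_iff_eq_inv]
  exact Equiv.ext (by decide +kernel)

theorem neg_conj_dilTwo : neg * dilTwo * neg = dilTwo := Equiv.ext (by decide +kernel)

theorem neg_conj_projInv : neg * projInv * neg = projInv := Equiv.ext (by decide +kernel)

theorem tr_mem_line : tr ∈ line := Subgroup.subset_closure (Or.inl (Or.inl rfl))

theorem projInv_mem_line : projInv ∈ line := Subgroup.subset_closure (Or.inl (Or.inr rfl))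

theorem dilTwo_mem_line : dilTwo ∈ line := frob_le_line dilTwo_mem

theorem dils_pow : ∀ v : (ZMod 23)ˣ, ∃ k : Fin 11, ∀ p : GolayPt,
    (dilTwo ^ (k : ℕ)) p = Equiv.optionCongr (Units.mulLeft (v * v)) p := by decide +kernel

theorem line_eq_closure : line = Subgroup.closure {tr, dilTwo, projInv} := by
  refine le_antisymm ((Subgroup.closure_le _).2 ?_) ((Subgroup.closure_le _).2 ?_)
  · rintro g ((rfl | rfl) | ⟨_, ⟨v, rfl⟩, rfl⟩)
    · exact Subgroup.subset_closure (Or.inl rfl)
    · exact Subgroup.subset_closure (Or.inr (Or.inr rfl))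
    · obtain ⟨k, hk⟩ := dils_pow v
      rw [← Equiv.ext hk]
      exact pow_mem (Subgroup.subset_closure (show dilTwo ∈ ({tr, dilTwo, projInv} : Set (Equiv.Perm GolayPt)) by simp)) _
  · rintro g (rfl | rfl | rfl)
    exacts [tr_mem_line, dilTwo_mem_line, projInv_mem_line]

theorem neg_notMem : neg ∉ line := by
  intro h
  have hs : neg ∈ line ⊓ MulAction.stabilizer (Equiv.Perm GolayPt) (none : GolayPt) := ⟨h, rfl⟩
  have hf : frob = line ⊓ MulAction.stabilizer (Equiv.Perm GolayPt) (none : GolayPt) := by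
    refine Subgroup.eq_of_le_of_card_ge (le_inf frob_le_line fun g hg => (frob_le hg).2) ?_
    have := card_of_line_le (K := line) le_rfl
    rw [card_line] at this
    rw [card_frob]; omega
  rw [← hf] at hs
  have hne : ¬ neg (some 1) = some 1 := by decide +kernel
  have : Fact (Nat.Prime 2) := ⟨Nat.prime_two⟩
  have ho : orderOf neg = 2 := orderOf_eq_prime (by rw [pow_two, neg_mul_neg])
    fun e => hne (by rw [e, Equiv.Perm.one_apply])
  have := Subgroup.orderOf_dvd_natCard _ hs
  rw [ho, card_frob] at this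
  norm_num at this

section graph

variable {G : Type*} [Group G] (φ : ↥line →* G) (j : G)

theorem conj_eq (hj2 : j * j = 1)
    (hu : ∀ a : ↥line, (a : Equiv.Perm GolayPt) = tr → j * φ a * j = (φ a)⁻¹)
    (hT : ∀ a : ↥line, (a : Equiv.Perm GolayPt) = dilTwo → j * φ a * j = φ a)
    (hw : ∀ a : ↥line, (a : Equiv.Perm GolayPt) = Cfsg.projInv → j * φ a * j = φ a) (a : ↥line) :
    ∃ b : ↥line, (b : Equiv.Perm GolayPt) = neg * a * neg ∧ φ b = j * φ a * j := by
  suffices h : ∀ p : Equiv.Perm GolayPt, p ∈ Subgroup.closure {tr, dilTwo, projInv} →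
      ∀ a : ↥line, (a : Equiv.Perm GolayPt) = p →
      ∃ b : ↥line, (b : Equiv.Perm GolayPt) = neg * a * neg ∧ φ b = j * φ a * j from
    h a (line_eq_closure ▸ a.2) a rfl
  intro p hp
  induction hp using Subgroup.closure_induction with
  | mem x hx =>
    intro a ha
    rcases hx with rfl | rfl | rfl
    · exact ⟨a⁻¹, by rw [Subgroup.coe_inv, ha, neg_conj_tr], by rw [map_inv, hu a ha]⟩
    · exact ⟨a, by rw [ha, neg_conj_dilTwo], (hT a ha).symm⟩
    · exact ⟨a, by rw [ha, neg_conj_projInv], (hw a ha).symm⟩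
  | one =>
    intro a ha
    have : a = 1 := Subtype.ext ha
    subst this
    exact ⟨1, by simp [neg_mul_neg], by simp [hj2]⟩
  | mul x y hx hy ihx ihy =>
    intro a ha
    have hxl : x ∈ line := line_eq_closure ▸ hx
    have hyl : y ∈ line := line_eq_closure ▸ hy
    obtain ⟨b, hb, hb'⟩ := ihx ⟨x, hxl⟩ rfl
    obtain ⟨c, hc, hc'⟩ := ihy ⟨y, hyl⟩ rfl
    have : a = ⟨x, hxl⟩ * ⟨y, hyl⟩ := Subtype.ext ha
    subst this
    refine ⟨b * c, ?_, ?_⟩
    · rw [Subgroup.coe_mul, Subgroup.coe_mul, hb, hc]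
      simp only [mul_assoc]
      rw [← mul_assoc neg neg, neg_mul_neg, one_mul]
    · rw [map_mul, map_mul, hb', hc']
      simp only [mul_assoc]
      rw [← mul_assoc j j, hj2, one_mul]
  | inv x hx ihx =>
    intro a ha
    have hxl : x ∈ line := line_eq_closure ▸ hx
    obtain ⟨b, hb, hb'⟩ := ihx ⟨x, hxl⟩ rfl
    have : a = ⟨x, hxl⟩⁻¹ := Subtype.ext ha
    subst this
    refine ⟨b⁻¹, ?_, ?_⟩
    · rw [Subgroup.coe_inv, Subgroup.coe_inv, hb]
      simp only [mul_inv_rev, inv_eq_of_mul_eq_one_right neg_mul_neg, mul_assoc]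
    · rw [map_inv, map_inv, hb']
      simp only [mul_inv_rev, inv_eq_of_mul_eq_one_right hj2, mul_assoc]

/-- The graph of the extension of `φ` by `neg ↦ j`. -/
def graph (hj2 : j * j = 1) (hc : ∀ a : ↥line, ∃ b : ↥line,
    (b : Equiv.Perm GolayPt) = neg * a * neg ∧ φ b = j * φ a * j) :
    Subgroup (Equiv.Perm GolayPt × G) where
  carrier := {x | (∃ a : ↥line, x.1 = a ∧ x.2 = φ a) ∨ ∃ a : ↥line, x.1 = a * neg ∧ x.2 = φ a * j}
  one_mem' := Or.inl ⟨1, rfl, (map_one φ).symm⟩
  mul_mem' := by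
    rintro x y (⟨a, hx1, hx2⟩ | ⟨a, hx1, hx2⟩) (⟨b, hy1, hy2⟩ | ⟨b, hy1, hy2⟩)
    · exact Or.inl ⟨a * b, by rw [Prod.fst_mul, hx1, hy1]; rfl,
        by rw [Prod.snd_mul, hx2, hy2, map_mul]⟩
    · exact Or.inr ⟨a * b, by rw [Prod.fst_mul, hx1, hy1, Subgroup.coe_mul, mul_assoc],
        by rw [Prod.snd_mul, hx2, hy2, map_mul, mul_assoc]⟩
    · obtain ⟨c, h1, h2⟩ := hc b
      refine Or.inr ⟨a * c, ?_, ?_⟩
      · rw [Prod.fst_mul, hx1, hy1, Subgroup.coe_mul, h1]
        simp only [mul_assoc, neg_mul_neg, mul_one]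
      · rw [Prod.snd_mul, hx2, hy2, map_mul, h2]
        simp only [mul_assoc, hj2, mul_one]
    · obtain ⟨c, h1, h2⟩ := hc b
      refine Or.inl ⟨a * c, ?_, ?_⟩
      · rw [Prod.fst_mul, hx1, hy1, Subgroup.coe_mul, h1]
        simp only [mul_assoc]
      · rw [Prod.snd_mul, hx2, hy2, map_mul, h2]
        simp only [mul_assoc]
  inv_mem' := by
    rintro x (⟨a, hx1, hx2⟩ | ⟨a, hx1, hx2⟩)
    · exact Or.inl ⟨a⁻¹, by rw [Prod.fst_inv, hx1]; rfl, by rw [Prod.snd_inv, hx2, map_inv]⟩
    · obtain ⟨c, h1, h2⟩ := hc a⁻¹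
      refine Or.inr ⟨c, ?_, ?_⟩
      · rw [Prod.fst_inv, hx1, h1, mul_inv_rev, inv_eq_of_mul_eq_one_right neg_mul_neg,
          Subgroup.coe_inv]
        simp only [mul_assoc, neg_mul_neg, mul_one]
      · rw [Prod.snd_inv, hx2, h2, mul_inv_rev, inv_eq_of_mul_eq_one_right hj2, map_inv]
        simp only [mul_assoc, hj2, mul_one]

/-- `line` extended by the negation, and its embedding. -/
theorem exists_double (hinj : Function.Injective φ) (hj2 : j * j = 1) (hjr : j ∉ φ.range)
    (hc : ∀ a : ↥line, ∃ b : ↥line, (b : Equiv.Perm GolayPt) = neg * a * neg ∧ φ b = j * φ a * j) :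
    ∃ (H : Subgroup (Equiv.Perm GolayPt)) (K : Subgroup G),
      Nonempty (↥K ≃* ↥H) ∧ H ≤ Subgroup.closure {tr, dilTwo, projInv, neg} ∧
      Nat.card ↥H = 12144 := by
  set Γ := graph φ j hj2 hc with hΓ
  set p₁ := (MonoidHom.fst (Equiv.Perm GolayPt) G).comp Γ.subtype with hp₁
  set p₂ := (MonoidHom.snd (Equiv.Perm GolayPt) G).comp Γ.subtype with hp₂
  have h1 : Function.Injective p₁ := by
    refine (injective_iff_map_eq_one p₁).2 ?_
    rintro ⟨⟨p, g⟩, hx⟩ (he : p = 1)
    rcases hx with ⟨a, ha, hg⟩ | ⟨a, ha, -⟩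
    · have : a = 1 := Subtype.ext (ha.symm.trans he)
      subst this
      exact Subtype.ext (Prod.ext he (hg.trans (map_one φ)))
    · exact absurd ((eq_inv_of_mul_eq_one_right (ha.symm.trans he)) ▸ inv_mem a.2) neg_notMem
  have h2 : Function.Injective p₂ := by
    refine (injective_iff_map_eq_one p₂).2 ?_
    rintro ⟨⟨p, g⟩, hx⟩ (he : g = 1)
    rcases hx with ⟨a, ha, hg⟩ | ⟨a, -, hg⟩
    · have : a = 1 := hinj ((hg.symm.trans he).trans (map_one φ).symm)
      subst this
      exact Subtype.ext (Prod.ext ha he)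
    · exact absurd ((eq_inv_of_mul_eq_one_right (hg.symm.trans he)) ▸ inv_mem ⟨a, rfl⟩) hjr
  refine ⟨p₁.range, p₂.range, ⟨(MonoidHom.ofInjective h2).symm.trans (MonoidHom.ofInjective h1)⟩, ?_, ?_⟩
  · have hl : line ≤ Subgroup.closure {tr, dilTwo, projInv, neg} := by
      rw [line_eq_closure]
      refine Subgroup.closure_mono fun x hx => ?_
      rcases hx with rfl | rfl | rfl <;> simp
    rintro _ ⟨⟨⟨p, g⟩, hx⟩, rfl⟩
    show p ∈ _
    rcases hx with ⟨a, rfl, -⟩ | ⟨a, rfl, -⟩
    · exact hl a.2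
    · exact mul_mem (hl a.2) (Subgroup.subset_closure (by simp))
  · let f : ↥line ⊕ ↥line → ↥Γ := Sum.elim (fun a => ⟨((a : Equiv.Perm GolayPt), φ a), Or.inl ⟨a, rfl, rfl⟩⟩)
      (fun a => ⟨((a : Equiv.Perm GolayPt) * neg, φ a * j), Or.inr ⟨a, rfl, rfl⟩⟩)
    have hbij : Function.Bijective f := by
      refine ⟨?_, ?_⟩
      · rintro (a | a) (b | b) e <;> have e' := congrArg (fun x : ↥Γ => x.1.1) e <;>
          simp only [f, Sum.elim_inl, Sum.elim_inr] at e'
        · exact congrArg _ (Subtype.ext e')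
        · exact absurd (eq_inv_mul_of_mul_eq e'.symm ▸ mul_mem (inv_mem b.2) a.2) neg_notMem
        · exact absurd (eq_inv_mul_of_mul_eq e' ▸ mul_mem (inv_mem a.2) b.2) neg_notMem
        · exact congrArg _ (Subtype.ext (mul_right_cancel e'))
      · rintro ⟨⟨p, g⟩, ⟨a, ha, hg⟩ | ⟨a, ha, hg⟩⟩
        · exact ⟨Sum.inl a, Subtype.ext (Prod.ext ha.symm hg.symm)⟩
        · exact ⟨Sum.inr a, Subtype.ext (Prod.ext ha.symm hg.symm)⟩
    rw [Nat.card_congr (MonoidHom.ofInjective h1).symm.toEquiv, ← Nat.card_eq_of_bijective f hbij,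
      Nat.card_sum, card_line]

end graph

local instance : Fact (Nat.Prime 23) := ⟨by norm_num⟩

/-- A subgroup of order 12144 generated within the four generators is PGL(2,23). -/
theorem nonempty_equiv_pgl {H : Subgroup (Equiv.Perm GolayPt)}
    (hH : H ≤ Subgroup.closure {tr, dilTwo, projInv, neg}) (hc : Nat.card ↥H = 12144) :
    Nonempty (↥H ≃* GL (Fin 2) (ZMod 23) ⧸ Subgroup.center (GL (Fin 2) (ZMod 23))) := by
  let Φ : GL (Fin 2) (ZMod 23) →* Equiv.Perm GolayPt :=
    MulAction.toPermHom (GL (Fin 2) (ZMod 23)) (OnePoint (ZMod 23))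
  have hle : Subgroup.center (GL (Fin 2) (ZMod 23)) ≤ Φ.ker := by
    intro M hM
    rw [Matrix.GeneralLinearGroup.center_eq_range_scalar] at hM
    obtain ⟨r, rfl⟩ := hM
    suffices key : ∀ x : OnePoint (ZMod 23), Matrix.GeneralLinearGroup.scalar (Fin 2) r • x = x from
      MonoidHom.mem_ker.2 (Equiv.ext key)
    intro x
    cases x with
    | infty => exact OnePoint.smul_infty_eq_self_iff.2 (by simp)
    | coe z =>
      rw [OnePoint.smul_some_eq_ite]
      simp [r.ne_zero]
  let q := QuotientGroup.lift (Subgroup.center (GL (Fin 2) (ZMod 23))) Φ hle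
  have hgen : ∀ (A : Matrix (Fin 2) (Fin 2) (ZMod 23)) (hA : A.det ≠ 0) (g : Equiv.Perm GolayPt),
      (∀ x : OnePoint (ZMod 23), Matrix.GeneralLinearGroup.mkOfDetNeZero A hA • x = g x) →
      g ∈ q.range := fun A hA g h =>
    ⟨QuotientGroup.mk (Matrix.GeneralLinearGroup.mkOfDetNeZero A hA), Equiv.ext h⟩
  have hco : ∀ (A : Matrix (Fin 2) (Fin 2) (ZMod 23)) (hA : A.det ≠ 0) (i k : Fin 2),
      (Matrix.GeneralLinearGroup.mkOfDetNeZero A hA) i k = A i k := fun _ _ _ _ => rfl
  have hpi : ∀ z : ZMod 23, (if z = 0 then (none : GolayPt) else some (-1 * z⁻¹)) = projInv (some z) := by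
    decide +kernel
  have hsub : Subgroup.closure {tr, dilTwo, projInv, neg} ≤ q.range := by
    refine (Subgroup.closure_le _).2 ?_
    rintro g (rfl | rfl | rfl | rfl)
    · refine hgen !![1, 1; 0, 1] (by simp [Matrix.det_fin_two]) _ fun x => ?_
      cases x with
      | infty =>
        rw [OnePoint.smul_infty_eq_self_iff.mpr (by rw [hco]; rfl)]
        rfl
      | coe z =>
        rw [OnePoint.smul_some_eq_ite]
        simp only [hco, Matrix.cons_val', Matrix.cons_val_zero, Matrix.cons_val_one, Matrix.of_apply,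
          Matrix.cons_val_fin_one, zero_mul, zero_add, one_mul, one_ne_zero, if_false, div_one]
        rfl
    · refine hgen !![2, 0; 0, 1] (by simp [Matrix.det_fin_two]; decide +kernel) _ fun x => ?_
      cases x with
      | infty =>
        rw [OnePoint.smul_infty_eq_self_iff.mpr (by rw [hco]; rfl)]
        rfl
      | coe z =>
        rw [OnePoint.smul_some_eq_ite]
        simp only [hco, Matrix.cons_val', Matrix.cons_val_zero, Matrix.cons_val_one, Matrix.of_apply,
          Matrix.cons_val_fin_one, zero_mul, zero_add, add_zero, one_ne_zero, if_false, div_one]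
        rfl
    · refine hgen !![0, -1; 1, 0] (by simp [Matrix.det_fin_two]) _ fun x => ?_
      cases x with
      | infty =>
        rw [OnePoint.smul_infty_eq_ite]
        simp only [hco, Matrix.cons_val', Matrix.cons_val_zero, Matrix.cons_val_one, Matrix.of_apply,
          Matrix.cons_val_fin_one, one_ne_zero, if_false, zero_div]
        rfl
      | coe z =>
        rw [OnePoint.smul_some_eq_ite]
        simp only [hco, Matrix.cons_val', Matrix.cons_val_zero, Matrix.cons_val_one, Matrix.of_apply,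
          Matrix.cons_val_fin_one, zero_mul, zero_add, one_mul, add_zero]
        rw [div_eq_mul_inv]
        exact hpi z
    · refine hgen !![-1, 0; 0, 1] (by simp [Matrix.det_fin_two]) _ fun x => ?_
      cases x with
      | infty =>
        rw [OnePoint.smul_infty_eq_self_iff.mpr (by rw [hco]; rfl)]
        rfl
      | coe z =>
        rw [OnePoint.smul_some_eq_ite]
        simp only [hco, Matrix.cons_val', Matrix.cons_val_zero, Matrix.cons_val_one, Matrix.of_apply,
          Matrix.cons_val_fin_one, zero_mul, zero_add, add_zero, one_ne_zero, if_false, div_one,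
          neg_mul, one_mul]
        rfl
  have hq : Nat.card (GL (Fin 2) (ZMod 23) ⧸ Subgroup.center (GL (Fin 2) (ZMod 23))) = 12144 := by
    have h := Subgroup.card_eq_card_quotient_mul_card_subgroup
      (Subgroup.center (GL (Fin 2) (ZMod 23)))
    have hz : Nat.card ↥(Subgroup.center (GL (Fin 2) (ZMod 23))) = 22 := by
      rw [Matrix.GeneralLinearGroup.center_eq_range_scalar,
        ← Nat.card_congr (MonoidHom.ofInjective (f := Matrix.GeneralLinearGroup.scalar (Fin 2))
          fun a b e => Units.ext ?_).toEquiv, Nat.card_units, Nat.card_zmod]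
      simpa using congrArg (fun M : GL (Fin 2) (ZMod 23) => M 0 0) e
    rw [hz, Matrix.card_GL_field, Fin.prod_univ_two, ZMod.card] at h
    norm_num at h ⊢
    omega
  have hHq : H = q.range := by
    refine Subgroup.eq_of_le_of_card_ge (hH.trans hsub) ?_
    rw [hc, ← hq]
    exact Nat.card_le_card_of_surjective _ q.rangeRestrict_surjective
  have hinj : Function.Injective q.rangeRestrict :=
    ((Nat.bijective_iff_surjective_and_card _).2
      ⟨q.rangeRestrict_surjective, by rw [hq, ← hHq, hc]⟩).1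
  exact ⟨(MulEquiv.subgroupCongr hHq).trans
    (MulEquiv.ofBijective q.rangeRestrict ⟨hinj, q.rangeRestrict_surjective⟩).symm⟩

/-- An embedding of `line` and an involution acting on it as negation give a copy of PGL(2,23). -/
theorem exists_pgl {G : Type*} [Group G] (φ : ↥line →* G) (hinj : Function.Injective φ) (j : G)
    (hj2 : j * j = 1) (hjr : j ∉ φ.range)
    (hu : ∀ a : ↥line, (a : Equiv.Perm GolayPt) = tr → j * φ a * j = (φ a)⁻¹)
    (hT : ∀ a : ↥line, (a : Equiv.Perm GolayPt) = dilTwo → j * φ a * j = φ a)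
    (hw : ∀ a : ↥line, (a : Equiv.Perm GolayPt) = Cfsg.projInv → j * φ a * j = φ a) :
    ∃ K : Subgroup G, Nonempty (↥K ≃* GL (Fin 2) (ZMod 23) ⧸ Subgroup.center (GL (Fin 2) (ZMod 23))) := by
  obtain ⟨H, K, ⟨e⟩, hH, hc⟩ := exists_double φ j hinj hj2 hjr (conj_eq φ j hj2 hu hT hw)
  obtain ⟨e'⟩ := nonempty_equiv_pgl hH hc
  exact ⟨K, ⟨e.trans e'⟩⟩

end Cfsg.Agent.J4Type.PGL
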