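import Cfsg.Agent.Lib.J4Type.PGL.Local
import Cfsg.Agent.Lib.J4Type.PGL.Iso
import Cfsg.Agent.Lib.J4Type.Order.Wiring

/-!
A subgroup isomorphic to PGL(2, 23) in a group of Janko-four type (helper26; content of S5578), from the order
and the Sylow 11-local.

* `exists_pgl23` : the statement, given the order and the facts on the Sylow 11-subgroups
-/

set_option autoImplicit false
set_option linter.unusedSectionVars false

namespace Cfsg.Agent.J4Type.PGL

open Cfsg Subgroup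
open Cfsg.Agent.J4Type.LargePrimes (bigs order4 Once exists_sylow)

variable {G : Type*} [Group G] [Finite G] [IsSimpleGroup G]

/-- **PGL(2, 23).** -/
theorem exists_pgl23 {z : G} {P : Subgroup G} (hJ : Cfsg.IsOfJankoFourTypeWith z P)
    (hcard : Nat.card G = 86775571046077562880)
    (h11 : ∀ U : Sylow 11 G, Cfsg.IsExtraspecial 11 ↥(U : Subgroup G) ∧ Nat.card ↥(U : Subgroup G) = 11 ^ 3 ∧
      Nat.card ↥(normalizer ((U : Subgroup G) : Set G)) = 2 ^ 4 * 3 * 5 * 11 ^ 3) :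
    ∃ K : Subgroup G, Nonempty (↥K ≃* GL (Fin 2) (ZMod 23) ⧸ Subgroup.center (GL (Fin 2) (ZMod 23))) := by
  have h := Wiring.inputs hJ
  obtain ⟨C, hCz, -⟩ := TwoTen.exists_ctx h
  subst hCz
  obtain ⟨Cp⟩ := Pentad.exists_pctx h.typeWith h.uniq h.split h.orb h.three h.local3.2.2.2.2 fun R hR => by
    obtain ⟨h1, h2, -⟩ := S5565.result (Wiring.not_comm hJ) C.z ⟨P, hJ⟩ R hR
    exact ⟨h1, h2⟩
  obtain ⟨h23, h29, h31, h37, h43⟩ := Wiring.sylow_large_primes hJ hcard
  have hcard' : Nat.card G = order4 := hcard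
  have hsyl : ∀ {p : ℕ} [Fact p.Prime], p ∈ bigs → ∀ {U : Subgroup G}, Nat.card ↥U = p →
      ∃ T : Sylow p G, (T : Subgroup G) = U := fun {p} _ hp {U} hU =>
    exists_sylow (LargePrimes.once hcard' hp) hU
  haveI : Fact (Nat.Prime 23) := ⟨by norm_num⟩
  haveI : Fact (Nat.Prime 29) := ⟨by norm_num⟩
  haveI : Fact (Nat.Prime 31) := ⟨by norm_num⟩
  haveI : Fact (Nat.Prime 37) := ⟨by norm_num⟩
  haveI : Fact (Nat.Prime 43) := ⟨by norm_num⟩
  have hbig : ∀ p ∈ bigs, ∀ U : Subgroup G, Nat.card ↥U = p → centralizer (U : Set G) = U := by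
    intro p hp U hU
    rcases LargePrimes.bigs_cases hp with rfl | rfl | rfl | rfl | rfl <;> obtain ⟨T, rfl⟩ := hsyl hp hU
    · exact (h23 T).1
    · exact (h29 T).1
    · exact (h31 T).1
    · exact (h37 T).1
    · exact (h43 T).1
  have h506 : ∀ U : Subgroup G, Nat.card ↥U = 23 → Nat.card ↥(normalizer (U : Set G)) = 506 := by
    intro U hU
    obtain ⟨T, rfl⟩ := hsyl (by decide) hU
    exact (h23 T).2
  obtain ⟨φ, j, hinj, hjj, hjr, hu, hT, hw⟩ := exists_twist C Cp hcard' hbig h506 h11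
  exact exists_pgl φ hinj j hjj hjr hu hT hw

end Cfsg.Agent.J4Type.PGL
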