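import Cfsg.Agent.Lib.J4Type.LargePrimes.Main
import Cfsg.Agent.Lib.J4Type.SplitCent
import Cfsg.Agent.Lib.J4Type.TwoTenModel
import Cfsg.Agent.Lib.PSL2.M24Line

/-!
The projective line group of degree 24 inside `2^11 : M24` twisted by a duad, and an outer involution normalising
it, in a group of Janko-four type (helper26; for S5578).

* `centralizer_dilTwo` : in M24 the dilation by two is self-centralising
* `card_M_eq` : its lift has centraliser of order 242 in the whole group
* `exists_twist` : the embedding and the involution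
-/

set_option autoImplicit false
set_option linter.unusedSectionVars false
set_option maxHeartbeats 800000

namespace Cfsg.Agent.J4Type.PGL

open Cfsg Cfsg.Agent.Golay Subgroup
open Cfsg.Agent.J4Type.Pentad (PCtx exists_q5 card_norm_five not_25_dvd order_seven_local centralizer_zpowers)
open Cfsg.Agent.J4Type.LargePrimes (bigs order4 Once conj_of_card mem_Cz_of_comm)
open Cfsg.Agent.J4Type.TwoTen (Ctx)
open Cfsg.Agent.PSL2.M24Line (tr dilTwo line line_le frob_le_line dilTwo_mem tr_mem orderOf_tr orderOf_dilTwo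
  no_involution)

/-! ### The permutations -/

theorem tr_mem_line : tr ∈ line := Subgroup.subset_closure (Or.inl (Or.inl rfl))

theorem projInv_mem_line : Cfsg.projInv ∈ line := Subgroup.subset_closure (Or.inl (Or.inr rfl))

theorem dilTwo_mem_line : dilTwo ∈ line := frob_le_line dilTwo_mem

/-- The three permutations in M24. -/
def trM : ↥M24 := ⟨tr, tr_mem⟩

/-- The dilation by two in M24. -/
def dilM : ↥M24 := ⟨dilTwo, line_le dilTwo_mem_line⟩

/-- The inversion in M24. -/
def invM : ↥M24 := ⟨Cfsg.projInv, line_le projInv_mem_line⟩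

theorem perm_facts : dilTwo * tr * dilTwo⁻¹ = tr * tr ∧ Cfsg.projInv * Cfsg.projInv = 1 ∧
    Cfsg.projInv * dilTwo * Cfsg.projInv⁻¹ = dilTwo⁻¹ ∧ tr none = none ∧ dilTwo none = none ∧
      Cfsg.projInv none = some 0 ∧ dilTwo (some 0) = some 0 := by
  have h : (∀ p, (dilTwo * tr) p = (tr * tr * dilTwo) p) ∧ (∀ p, (Cfsg.projInv * Cfsg.projInv) p = p) ∧
      (∀ p, (dilTwo * Cfsg.projInv * dilTwo) p = Cfsg.projInv p) := by decide +kernel
  refine ⟨?_, Equiv.ext h.2.1, ?_, rfl, rfl, rfl, rfl⟩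
  · rw [mul_inv_eq_iff_eq_mul]; exact Equiv.ext h.1
  · rw [mul_inv_eq_iff_eq_mul, eq_inv_mul_iff_mul_eq, ← mul_assoc]
    exact Equiv.ext h.2.2

theorem dil_conj : dilM * trM * dilM⁻¹ = trM * trM := Subtype.ext perm_facts.1

theorem inv_sq : invM * invM = 1 := Subtype.ext perm_facts.2.1

theorem inv_conj : invM * dilM * invM⁻¹ = dilM⁻¹ := Subtype.ext perm_facts.2.2.1

theorem orderOf_trM : orderOf trM = 23 := (Subgroup.orderOf_coe trM).symm.trans orderOf_tr

theorem orderOf_dilM : orderOf dilM = 11 := (Subgroup.orderOf_coe dilM).symm.trans orderOf_dilTwo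

/-- The dilation is self-centralising. -/
theorem centralizer_dilTwo {σ : ↥M24} (h : σ * dilM = dilM * σ) : σ ∈ zpowers dilM := by
  classical
  haveI : Fact (Nat.Prime 11) := ⟨by norm_num⟩
  set C := centralizer ({dilM} : Set ↥M24) with hC
  have hle : zpowers dilM ≤ C := zpowers_le.2 (mem_centralizer_singleton_iff.2 rfl)
  have hz : Nat.card ↥(zpowers dilM) = 11 := by rw [Nat.card_zpowers, orderOf_dilM]
  rcases LargePrimes.cent_eleven orderOf_dilM with h11 | h22
  · rw [eq_of_le_of_card_ge hle (by rw [h11, hz])]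
    exact mem_centralizer_singleton_iff.2 h
  exfalso
  haveI : Fact (Nat.Prime 2) := ⟨Nat.prime_two⟩
  obtain ⟨c, hc⟩ := exists_prime_orderOf_dvd_card' (G := ↥C) 2 (by rw [hC, h22]; norm_num)
  rw [← Subgroup.orderOf_coe] at hc
  set c' : ↥M24 := (c : ↥M24)
  have hcd : c' * dilM = dilM * c' := mem_centralizer_singleton_iff.1 c.2
  have hno : ∀ {t : ↥M24} {a : GolayPt}, orderOf t = 2 → (t : Equiv.Perm GolayPt) a = a →
      t * dilM * t⁻¹ ∈ zpowers dilM → False := fun {t a} ht ha hn => by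
    refine no_involution (p := 11) (by norm_num) t.2 ((Subgroup.orderOf_coe t).trans ht) ha
      ((Subgroup.orderOf_coe dilM).trans orderOf_dilM) ?_ ?_
    · exact (Golay.Index.card_fixed_eleven (line_le dilTwo_mem_line) orderOf_dilTwo).le
    · obtain ⟨k, hk⟩ := hn
      exact ⟨k, congrArg Subtype.val hk⟩
  have hcnone : (c' : Equiv.Perm GolayPt) none = some 0 := by
    have hfix : ∀ p, dilTwo p = p → p = none ∨ p = some 0 := by decide +kernel
    rcases hfix _ (by
      have := congrArg (fun q : ↥M24 => (q : Equiv.Perm GolayPt) none) hcd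
      simp only [Subgroup.coe_mul, Equiv.Perm.mul_apply] at this
      exact (this.symm.trans rfl :)) with e | e
    · exact absurd (hno hc e (by rw [hcd, mul_inv_cancel_right]; exact mem_zpowers _)) id
    · exact e
  -- the involution commuting with the dilation commutes with the inversion
  have hwC : invM * c' * invM⁻¹ ∈ C := by
    refine mem_centralizer_singleton_iff.2 ?_
    have e : dilM = invM * dilM⁻¹ * invM⁻¹ := by
      rw [← conj_inv, inv_conj, inv_inv]
    calc invM * c' * invM⁻¹ * dilM = invM * c' * invM⁻¹ * (invM * dilM⁻¹ * invM⁻¹) := by rw [← e]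
      _ = invM * (c' * dilM⁻¹) * invM⁻¹ := by group
      _ = invM * (dilM⁻¹ * c') * invM⁻¹ := by rw [(show Commute c' dilM from hcd).inv_right.eq]
      _ = (invM * dilM⁻¹ * invM⁻¹) * (invM * c' * invM⁻¹) := by group
      _ = _ := by rw [← e]
  have hcw : invM * c' * invM⁻¹ = c' := by
    set d : ↥M24 := invM * c' * invM⁻¹ * c'⁻¹
    have hdC : d ∈ C := mul_mem hwC (inv_mem c.2)
    have hidx : (zpowers dilM).relIndex C = 2 := by
      have := Subgroup.card_mul_index ((zpowers dilM).subgroupOf C)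
      rw [Nat.card_congr (subgroupOfEquivOfLe hle).toEquiv, hz, h22] at this
      rw [Subgroup.relIndex]; omega
    have hnot : ∀ {x : ↥M24}, orderOf x = 2 → x ∉ zpowers dilM := fun {x} hx hh => by
      have := orderOf_dvd_natCard (⟨x, hh⟩ : ↥(zpowers dilM))
      rw [Subgroup.orderOf_mk, hx, hz] at this
      norm_num at this
    have hconj2 : orderOf (invM * c' * invM⁻¹) = 2 := by
      rw [← hc]; exact orderOf_injective (MulAut.conj invM).toMonoidHom (MulAut.conj invM).injective c'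
    have hd : d ∈ zpowers dilM := by
      refine (Subgroup.mul_mem_iff_of_index_two hidx (a := ⟨_, hwC⟩) (b := ⟨c'⁻¹, inv_mem c.2⟩)).2 ?_ |> id
      exact iff_of_false (hnot hconj2) fun hh => hnot hc ((inv_mem_iff (H := zpowers dilM)).1 hh)
    have hdd : d ^ 2 = 1 := by
      have hcomm : Commute d c' := by
        obtain ⟨k, hk⟩ := hd
        rw [← hk]
        exact (show Commute dilM c' from hcd.symm).zpow_left k
      have e1 : (d * c') ^ 2 = 1 := by
        rw [show d * c' = invM * c' * invM⁻¹ by simp only [d]; group, ← hconj2, pow_orderOf_eq_one]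
      rw [hcomm.mul_pow, show c' ^ 2 = 1 by rw [← hc, pow_orderOf_eq_one], mul_one] at e1
      exact e1
    have h1 : orderOf d ∣ Nat.gcd 2 11 := Nat.dvd_gcd (orderOf_dvd_of_pow_eq_one hdd)
      (hz ▸ Subgroup.orderOf_mk d hd ▸ orderOf_dvd_natCard _)
    rw [show Nat.gcd 2 11 = 1 by norm_num, Nat.dvd_one, orderOf_eq_one_iff, mul_inv_eq_one] at h1
    exact h1
  -- their product fixes a point and inverts the dilation
  have hp : (invM * c') ^ 2 = 1 := by
    rw [(show Commute invM c' from mul_inv_eq_iff_eq_mul.1 hcw).mul_pow, pow_two, inv_sq, one_mul,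
      ← hc, pow_orderOf_eq_one]
  refine hno (t := invM * c') (a := none) (orderOf_eq_prime hp ?_) ?_ ?_
  · intro e
    have h1 : invM = c'⁻¹ := eq_inv_of_mul_eq_one_left e
    have h2 := inv_conj
    rw [h1, (show Commute c' dilM from hcd).inv_left.eq, mul_inv_cancel_right] at h2
    have h3 : dilM ^ 2 = 1 := by rw [pow_two]; exact mul_eq_one_iff_eq_inv.2 h2
    have := orderOf_dvd_of_pow_eq_one h3
    rw [orderOf_dilM] at this
    norm_num at this
  · show Cfsg.projInv ((c' : Equiv.Perm GolayPt) none) = none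
    rw [hcnone]
    rfl
  · rw [show invM * c' * dilM * (invM * c')⁻¹ = invM * (c' * dilM * c'⁻¹) * invM⁻¹ by group, hcd,
      mul_inv_cancel_right, inv_conj]
    exact inv_mem (mem_zpowers _)

/-! ### The centraliser of the lift of the dilation -/

variable {G : Type*} [Group G] [Finite G] {z : G} {P : Subgroup G}

/-- The element over a permutation, as a homomorphism. -/
noncomputable def elHom (D : SplitData G) : ↥M24 →* G := MonoidHom.mk' D.el D.el_mul

theorem elHom_injective (C : Ctx G) : Function.Injective (elHom C.D) := fun _ _ h => C.el_inj h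

/-- Small primes centralising an element of order 11. -/
theorem no_five_seven (Cp : PCtx z P) {y a : G} (hy : orderOf y = 5 ∨ orderOf y = 7) (ha : orderOf a = 11)
    (hc : a * y = y * a) : False := by
  haveI : Fact (Nat.Prime 5) := ⟨by norm_num⟩
  have hd : 11 ∣ Nat.card ↥(centralizer ({y} : Set G)) := by
    rw [← ha, ← Subgroup.orderOf_mk a (mem_centralizer_singleton_iff.2 hc)]
    exact orderOf_dvd_natCard _
  rw [← centralizer_zpowers] at hd
  rcases hy with h | h
  · obtain ⟨q, hq, ho⟩ := exists_q5 Cp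
    have honce : Once G 5 := ⟨ho ▸ orderOf_dvd_natCard q, not_25_dvd Cp⟩
    obtain ⟨g, hg⟩ := conj_of_card honce (U := zpowers q) (U' := zpowers y) (by rw [Nat.card_zpowers, ho])
      (by rw [Nat.card_zpowers, h])
    rw [LargePrimes.card_conj_centralizer hg] at hd
    have h5 := hd.trans (card_dvd_of_le (centralizer_le_normalizer _))
    rw [card_norm_five Cp hq ho] at h5
    norm_num at h5
  · obtain ⟨-, -, -, h7⟩ := order_seven_local Cp (S := zpowers y) (by rw [Nat.card_zpowers, h])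
    have h' := hd.trans (card_dvd_of_le (centralizer_le_normalizer _))
    rw [h7] at h'
    norm_num at h'

/-- An element of order three centralising one of order 11 gives a conjugate of `z` centralising it. -/
theorem exists_z_of_three (Cp : PCtx z P) {y a : G} (hy : orderOf y = 3) (hc : a * y = y * a) :
    ∃ i, IsConj z i ∧ i * a = a * i := by
  obtain ⟨g, hg⟩ := isConj_iff.1 (Cp.three Cp.S.gen y Cp.S.gen_ord hy)
  have hm : g⁻¹ * a * g ∈ Cz z := by
    refine mem_Cz_of_comm Cp ?_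
    calc g⁻¹ * a * g * Cp.S.gen = g⁻¹ * (a * (g * Cp.S.gen * g⁻¹)) * g := by group
      _ = g⁻¹ * ((g * Cp.S.gen * g⁻¹) * a) * g := by rw [hg, hc]
      _ = _ := by group
  refine ⟨g * z * g⁻¹, isConj_iff.2 ⟨g, rfl⟩, ?_⟩
  have h : g⁻¹ * a * g * z = z * (g⁻¹ * a * g) := mem_centralizer_singleton_iff.1 hm
  calc g * z * g⁻¹ * a = g * (z * (g⁻¹ * a * g)) * g⁻¹ := by group
    _ = g * (g⁻¹ * a * g * z) * g⁻¹ := by rw [h]
    _ = _ := by group

variable (C : Ctx G)

/-- The lift of the dilation. -/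
noncomputable def aT : G := C.D.el dilM

/-- The duad fixed by it. -/
noncomputable def tt : G := C.M.phi (GolayModule.pair none (some 0))

theorem orderOf_aT : orderOf (aT C) = 11 :=
  (orderOf_injective (elHom C.D) (elHom_injective C) dilM).trans orderOf_dilM

theorem tt_conj : IsConj C.D.t (tt C) := by
  obtain ⟨σ, hσ⟩ := C.M.duad none (some 0) (by decide)
  exact isConj_iff.2 ⟨_, hσ⟩

theorem tt_ne_one : tt C ≠ 1 := by
  intro e
  obtain ⟨g, hg⟩ := isConj_iff.1 (tt_conj C)
  rw [e, conj_eq_one_iff] at hg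
  exact C.D.t_ne_one hg

theorem tt_sq : tt C * tt C = 1 := C.D.sq_one (C.M.mem _)

theorem not_conj_tt {i : G} (h : IsConj (tt C) i) : ¬ IsConj C.z i := fun hz =>
  C.t_not (hz.trans (h.symm.trans (tt_conj C).symm))

theorem aT_tt : aT C * tt C = tt C * aT C := by
  rw [← mul_inv_eq_iff_eq_mul, aT, tt, C.M.equiv _ _ (ev_pair _ _), sh_pair]
  rfl

theorem cent_tt_le : centralizer ({tt C} : Set G) ≤ normalizer (C.D.V : Set G) := by
  obtain ⟨σ, hσ⟩ := C.M.duad none (some 0) (by decide)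
  intro x hx
  have hx' : (C.D.el σ)⁻¹ * x * C.D.el σ ∈ normalizer (C.D.V : Set G) := by
    refine C.t_cent (mem_centralizer_singleton_iff.2 ?_)
    have h := mem_centralizer_singleton_iff.1 hx
    rw [tt, ← hσ] at h
    calc (C.D.el σ)⁻¹ * x * C.D.el σ * C.D.t
        = (C.D.el σ)⁻¹ * (x * (C.D.el σ * C.D.t * (C.D.el σ)⁻¹)) * C.D.el σ := by group
      _ = (C.D.el σ)⁻¹ * ((C.D.el σ * C.D.t * (C.D.el σ)⁻¹) * x) * C.D.el σ := by rw [h]
      _ = _ := by group
  have := mul_mem (mul_mem (C.D.el_norm σ) hx') (inv_mem (C.D.el_norm σ))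
  rwa [show C.D.el σ * ((C.D.el σ)⁻¹ * x * C.D.el σ) * (C.D.el σ)⁻¹ = x by group] at this

/-- The vectors fixed by the lift of the dilation. -/
theorem V_cent_aT : C.D.V ⊓ centralizer ({aT C} : Set G) = zpowers (tt C) := by
  haveI : Fact (Nat.Prime 2) := ⟨Nat.prime_two⟩
  have ho := orderOf_aT C
  have hmod := LargePrimes.card_fix_mod C.D.V ho (C.D.el_norm dilM)
  obtain ⟨k, hk, hkc⟩ := (Nat.dvd_prime_pow Nat.prime_two).1 (C.D.card ▸ card_dvd_of_le
    (inf_le_left : C.D.V ⊓ centralizer ({aT C} : Set G) ≤ C.D.V))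
  rw [hkc, C.D.card] at hmod
  rcases (show k = 1 ∨ k = 11 by
    interval_cases k <;> first | (left; rfl) | (right; rfl) | (norm_num at hmod)) with rfl | rfl
  · symm
    refine eq_of_le_of_card_ge (zpowers_le.2 (Subgroup.mem_inf.2
      ⟨C.M.mem _, mem_centralizer_singleton_iff.2 (aT_tt C).symm⟩)) ?_
    rw [hkc, Nat.card_zpowers, orderOf_eq_prime ((pow_two _).trans (tt_sq C)) (tt_ne_one C), pow_one]
  exfalso
  have heq := eq_of_le_of_card_ge (inf_le_left : C.D.V ⊓ centralizer ({aT C} : Set G) ≤ C.D.V)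
    (by rw [hkc, C.D.card])
  have hV : aT C ∈ C.D.V := C.D.cent (mem_centralizer_iff.2 fun v hv => by
    rw [← heq] at hv
    exact mem_centralizer_singleton_iff.1 (Subgroup.mem_inf.1 hv).2)
  have h11 := orderOf_dilM
  rw [C.el_eq_one hV, orderOf_one] at h11
  norm_num at h11

/-- The centraliser of the lift inside that of the duad has order at most 22. -/
theorem cent_pair_le : Nat.card ↥(centralizer ({aT C} : Set G) ⊓ centralizer ({tt C} : Set G)) ≤ 22 := by
  have hS : ∀ x ∈ centralizer ({aT C} : Set G) ⊓ centralizer ({tt C} : Set G),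
      ∃ v ∈ zpowers (tt C), ∃ a ∈ zpowers (aT C), v * a = x := by
    intro x hx
    obtain ⟨v, hv, k, rfl⟩ := C.D.exists_mul (cent_tt_le C (Subgroup.mem_inf.1 hx).2)
    have hxa := mem_centralizer_singleton_iff.1 (Subgroup.mem_inf.1 hx).1
    obtain ⟨σ, hσ⟩ : ∃ σ, C.D.el σ = (k : G) := ⟨C.D.e k, by simp [SplitData.el]⟩
    rw [← hσ] at hxa ⊢
    have hmem : C.D.el (σ * dilM * σ⁻¹ * dilM⁻¹) ∈ C.D.V := by
      have e : C.D.el (σ * dilM * σ⁻¹ * dilM⁻¹) = v⁻¹ * (aT C * v * (aT C)⁻¹) := by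
        rw [C.D.el_mul, C.D.el_mul, C.D.el_mul, C.D.el_inv, C.D.el_inv, ← aT]
        calc C.D.el σ * aT C * (C.D.el σ)⁻¹ * (aT C)⁻¹
            = v⁻¹ * (v * C.D.el σ * aT C) * (C.D.el σ)⁻¹ * (aT C)⁻¹ := by group
          _ = v⁻¹ * (aT C * (v * C.D.el σ)) * (C.D.el σ)⁻¹ * (aT C)⁻¹ := by rw [hxa]
          _ = _ := by group
      rw [e]
      exact mul_mem (inv_mem hv) (C.D.conj_mem (C.D.el_norm _) hv)
    have hσd : σ * dilM = dilM * σ := mul_inv_eq_iff_eq_mul.1 (mul_inv_eq_one.1 (C.el_eq_one hmem))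
    obtain ⟨i, hi⟩ := centralizer_dilTwo hσd
    have hel : C.D.el σ = aT C ^ i := by
      rw [← hi]
      exact map_zpow (elHom C.D) dilM i
    refine ⟨v, ?_, C.D.el σ, hel ▸ zpow_mem (mem_zpowers _) i, rfl⟩
    rw [← V_cent_aT C]
    refine Subgroup.mem_inf.2 ⟨hv, mem_centralizer_singleton_iff.2 ?_⟩
    have hc : Commute (aT C) (C.D.el σ) := hel ▸ Commute.self_zpow _ i
    have h1 : Commute (v * C.D.el σ) (aT C) := hxa
    have := h1.mul_left hc.symm.inv_left
    rwa [mul_inv_cancel_right] at this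
  refine le_trans (Nat.card_le_card_of_surjective
    (fun p : {p : ↥(zpowers (tt C)) × ↥(zpowers (aT C)) //
      (p.1 : G) * p.2 ∈ centralizer ({aT C} : Set G) ⊓ centralizer ({tt C} : Set G)} =>
      (⟨_, p.2⟩ : ↥(centralizer ({aT C} : Set G) ⊓ centralizer ({tt C} : Set G))))
    fun x => ?_) ((Finite.card_subtype_le _).trans ?_)
  · obtain ⟨v, hv, a, ha, e⟩ := hS x x.2
    exact ⟨⟨(⟨v, hv⟩, ⟨a, ha⟩), by show v * a ∈ _; rw [e]; exact x.2⟩, Subtype.ext e⟩
  · rw [Nat.card_prod, Nat.card_zpowers, Nat.card_zpowers, orderOf_aT,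
      orderOf_eq_prime ((pow_two _).trans (tt_sq C)) (tt_ne_one C)]

theorem comm_cent_aT {x : G} : x ∈ centralizer ({aT C} : Set G) ↔ x * aT C = aT C * x :=
  mem_centralizer_singleton_iff

theorem not_four_dvd : ¬ 4 ∣ Nat.card ↥(centralizer ({aT C} : Set G)) := by
  haveI : Fact (Nat.Prime 2) := ⟨Nat.prime_two⟩
  intro h4
  set M := centralizer ({aT C} : Set G)
  set t' : ↥M := ⟨tt C, (comm_cent_aT C).2 (aT_tt C).symm⟩
  have ht : orderOf t' = 2 := by
    rw [Subgroup.orderOf_mk]; exact orderOf_eq_prime ((pow_two _).trans (tt_sq C)) (tt_ne_one C)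
  obtain ⟨K, hK, hle⟩ := Sylow.exists_subgroup_card_pow_succ (p := 2) (n := 1) (G := ↥M) (by simpa using h4)
    (H := zpowers t') (by rw [Nat.card_zpowers, ht, pow_one])
  haveI := IsPGroup.isMulCommutative_of_card_eq_prime_sq (p := 2) hK
  have hKle : K.map M.subtype ≤ M ⊓ centralizer ({tt C} : Set G) := by
    rintro _ ⟨x, hx, rfl⟩
    refine Subgroup.mem_inf.2 ⟨x.2, mem_centralizer_singleton_iff.2 ?_⟩
    exact congrArg Subtype.val (setLike_mul_comm hx (hle (mem_zpowers t')))
  have hlt := cent_pair_le C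
  have hd : Nat.card ↥(K.map M.subtype) ∣ Nat.card ↥(M ⊓ centralizer ({tt C} : Set G)) := card_dvd_of_le hKle
  rw [card_map_of_injective M.subtype_injective, hK] at hd
  have hT : 11 ∣ Nat.card ↥(M ⊓ centralizer ({tt C} : Set G)) := by
    rw [← orderOf_aT C, ← Subgroup.orderOf_mk (aT C) (Subgroup.mem_inf.2
      ⟨(comm_cent_aT C).2 rfl, mem_centralizer_singleton_iff.2 (aT_tt C)⟩)]
    exact orderOf_dvd_natCard _
  have := Nat.le_of_dvd Nat.card_pos
    (Nat.Coprime.mul_dvd_of_dvd_of_dvd (m := 2 ^ (1 + 1)) (n := 11) (by norm_num) hd hT)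
  norm_num at this
  exact absurd (this.trans hlt) (by norm_num)

/-- All involutions of the centraliser are of the kind of the duad. -/
theorem conj_tt {i : G} (hi : orderOf i = 2) (hc : i * aT C = aT C * i) : IsConj (tt C) i := by
  haveI : Fact (Nat.Prime 2) := ⟨Nat.prime_two⟩
  set M := centralizer ({aT C} : Set G)
  have hsyl : ∀ x : ↥M, orderOf x = 2 → ∃ T : Sylow 2 ↥M, (T : Subgroup ↥M) = zpowers x := by
    intro x hx
    obtain ⟨T, hT⟩ := (IsPGroup.of_card (p := 2) (n := 1) (G := ↥(zpowers x))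
      (by rw [Nat.card_zpowers, hx, pow_one])).exists_le_sylow
    refine ⟨T, (eq_of_le_of_card_ge hT ?_).symm⟩
    rw [Nat.card_zpowers, hx]
    obtain ⟨k, hk⟩ := IsPGroup.iff_card.1 T.isPGroup'
    have : k ≤ 1 := by
      by_contra h
      exact not_four_dvd C ((pow_dvd_pow 2 (show 2 ≤ k by omega)).trans (hk ▸ card_subgroup_dvd_card _))
    exact hk ▸ (Nat.pow_le_pow_right (by norm_num) this).trans (by norm_num)
  obtain ⟨T1, h1⟩ := hsyl ⟨tt C, (comm_cent_aT C).2 (aT_tt C).symm⟩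
    (by rw [Subgroup.orderOf_mk]; exact orderOf_eq_prime ((pow_two _).trans (tt_sq C)) (tt_ne_one C))
  obtain ⟨T2, h2⟩ := hsyl ⟨i, (comm_cent_aT C).2 hc⟩ (by rw [Subgroup.orderOf_mk]; exact hi)
  obtain ⟨g, hg⟩ := MulAction.exists_smul_eq ↥M T1 T2
  have hmem : g * ⟨tt C, (comm_cent_aT C).2 (aT_tt C).symm⟩ * g⁻¹ ∈ (T2 : Subgroup ↥M) := by
    rw [← hg, Sylow.coe_subgroup_smul, h1]
    exact ⟨_, mem_zpowers _, rfl⟩
  rw [h2] at hmem
  rcases LargeExtraspecial.mem_zpowers_two (Subtype.ext (by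
    show i * i = 1
    rw [← pow_two, ← hi, pow_orderOf_eq_one])) hmem with e | e
  · rw [conj_eq_one_iff] at e
    exact absurd (congrArg Subtype.val e) (tt_ne_one C)
  · exact isConj_iff.2 ⟨g, congrArg Subtype.val e⟩

/-- The orders of elements of prime order commuting with the lift. -/
theorem prime_cases (Cp : PCtx C.z P) (hcard : Nat.card G = order4)
    (hbig : ∀ p ∈ bigs, ∀ U : Subgroup G, Nat.card ↥U = p → centralizer (U : Set G) = U) {r : ℕ} (hr : r.Prime)
    (hd : r ∣ Nat.card ↥(centralizer ({aT C} : Set G))) : r = 2 ∨ r = 11 := by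
  haveI := Fact.mk hr
  obtain ⟨y, hy⟩ := exists_prime_orderOf_dvd_card' r hd
  rw [← Subgroup.orderOf_coe] at hy
  have hya : aT C * y = (y : G) * aT C := ((comm_cent_aT C).1 y.2).symm
  have hrG : r ∣ order4 := hcard ▸ hd.trans (card_subgroup_dvd_card _)
  have hlist : r = 2 ∨ r = 3 ∨ r = 5 ∨ r = 7 ∨ r = 11 ∨ r ∈ bigs := by
    have h : r ∣ 2 ^ 21 * 3 ^ 3 * 5 * 7 * 11 ^ 3 * 23 * 29 * 31 * 37 * 43 := by
      rw [show (2 : ℕ) ^ 21 * 3 ^ 3 * 5 * 7 * 11 ^ 3 * 23 * 29 * 31 * 37 * 43 = order4 by decide +kernel]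
      exact hrG
    have hp : ∀ {q : ℕ}, q.Prime → r ∣ q → r = q := fun hq h => (Nat.prime_dvd_prime_iff_eq hr hq).1 h
    simp only [hr.dvd_mul] at h
    rcases h with ((((((((h | h) | h) | h) | h) | h) | h) | h) | h) | h
    · exact Or.inl (hp Nat.prime_two (hr.dvd_of_dvd_pow h))
    · exact Or.inr (Or.inl (hp (by norm_num) (hr.dvd_of_dvd_pow h)))
    · exact Or.inr (Or.inr (Or.inl (hp (by norm_num) h)))
    · exact Or.inr (Or.inr (Or.inr (Or.inl (hp (by norm_num) h))))
    · exact Or.inr (Or.inr (Or.inr (Or.inr (Or.inl (hp (by norm_num) (hr.dvd_of_dvd_pow h))))))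
    all_goals
      refine Or.inr (Or.inr (Or.inr (Or.inr (Or.inr ?_))))
      rw [hp (by norm_num) h]
      simp [bigs]
  rcases hlist with h | h | h | h | h | h
  · exact Or.inl h
  · exfalso
    obtain ⟨i, hi, hia⟩ := exists_z_of_three Cp (hy.trans h) hya
    obtain ⟨g, hg⟩ := isConj_iff.1 hi
    have hi2 : orderOf i = 2 := by
      rw [← hg]
      exact (orderOf_injective (MulAut.conj g).toMonoidHom (MulAut.conj g).injective C.z).trans Cp.S.orderOf_z
    exact not_conj_tt C (conj_tt C hi2 hia) hi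
  · exact (no_five_seven Cp (Or.inl (hy.trans h)) (orderOf_aT C) hya).elim
  · exact (no_five_seven Cp (Or.inr (hy.trans h)) (orderOf_aT C) hya).elim
  · exact Or.inr h
  · exfalso
    have hU := hbig r h (zpowers (y : G)) (by rw [Nat.card_zpowers, hy])
    have hmem : aT C ∈ zpowers (y : G) := by
      rw [← hU, centralizer_zpowers]
      exact mem_centralizer_singleton_iff.2 hya
    have h11 := orderOf_dvd_natCard (⟨aT C, hmem⟩ : ↥(zpowers (y : G)))
    rw [Subgroup.orderOf_mk, orderOf_aT, Nat.card_zpowers, hy] at h11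
    have := (Nat.prime_dvd_prime_iff_eq (by norm_num) hr).1 h11
    rw [← this] at h
    simp [bigs] at h

/-- No Sylow 11-subgroup centralises the lift. -/
theorem not_cube_dvd (hcard : Nat.card G = order4)
    (h11 : ∀ U : Sylow 11 G, Cfsg.IsExtraspecial 11 ↥(U : Subgroup G) ∧ Nat.card ↥(U : Subgroup G) = 11 ^ 3 ∧
      Nat.card ↥(normalizer ((U : Subgroup G) : Set G)) = 2 ^ 4 * 3 * 5 * 11 ^ 3) :
    ¬ 11 ^ 3 ∣ Nat.card ↥(centralizer ({aT C} : Set G)) := by
  haveI : Fact (Nat.Prime 11) := ⟨by norm_num⟩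
  intro hd
  set M := centralizer ({aT C} : Set G)
  obtain ⟨U0, hU0⟩ := Sylow.exists_subgroup_card_pow_prime 11 hd
  set U1 := U0.map M.subtype
  have hU1 : Nat.card ↥U1 = 11 ^ 3 := by rw [card_map_of_injective M.subtype_injective, hU0]
  obtain ⟨U, hle⟩ := (IsPGroup.of_card (n := 3) hU1).exists_le_sylow
  obtain ⟨hext, hUc, hN⟩ := h11 U
  have hUeq : U1 = U := eq_of_le_of_card_ge hle (by rw [hUc, hU1])
  have hcU : ∀ x ∈ (U : Subgroup G), x * aT C = aT C * x := fun x hx => by
    rw [← hUeq] at hx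
    exact (comm_cent_aT C).1 (map_subtype_le _ hx)
  have haU : aT C ∈ (U : Subgroup G) := by
    have hz : Nat.card ↥(zpowers (aT C)) = 11 ^ 1 := by rw [Nat.card_zpowers, orderOf_aT, pow_one]
    have hn : (U : Subgroup G) ≤ normalizer (zpowers (aT C) : Set G) := fun x hx => by
      refine centralizer_le_normalizer _ ?_
      rw [centralizer_zpowers]
      exact mem_centralizer_singleton_iff.2 (hcU x hx)
    have hp := IsPGroup.to_sup_of_normal_left' (IsPGroup.of_card hz) U.isPGroup' hn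
    have := U.is_maximal' hp le_sup_right
    rw [← this]
    exact Subgroup.mem_sup_left (mem_zpowers _)
  -- the lift generates the centre
  have hcen : (center ↥(U : Subgroup G)).map (U : Subgroup G).subtype = zpowers (aT C) := by
    symm
    refine eq_of_le_of_card_ge (zpowers_le.2 ⟨⟨_, haU⟩, ?_, rfl⟩) ?_
    · exact Subgroup.mem_center_iff.2 fun x => Subtype.ext (hcU x x.2)
    · rw [card_map_of_injective (Subgroup.subtype_injective _), hext.2, Nat.card_zpowers, orderOf_aT]
  have hNle : normalizer ((U : Subgroup G) : Set G) ≤ normalizer (zpowers (aT C) : Set G) := by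
    intro x hx
    refine Subgroup.mem_normalizer_fintype fun q hq => ?_
    rw [SetLike.mem_coe, ← hcen] at hq ⊢
    obtain ⟨c, hc, rfl⟩ := hq
    refine ⟨⟨x * c * x⁻¹, (mem_normalizer_iff.1 hx _).1 c.2⟩, Subgroup.mem_center_iff.2 fun y => Subtype.ext ?_, rfl⟩
    have hy : x⁻¹ * (y : G) * x ∈ (U : Subgroup G) := by
      simpa using (mem_normalizer_iff.1 (inv_mem hx) _).1 y.2
    have h := congrArg Subtype.val (Subgroup.mem_center_iff.1 hc ⟨_, hy⟩)
    show (y : G) * (x * c * x⁻¹) = x * c * x⁻¹ * y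
    calc (y : G) * (x * c * x⁻¹) = x * (x⁻¹ * y * x * c) * x⁻¹ := by group
      _ = x * (c * (x⁻¹ * y * x)) * x⁻¹ := by rw [show x⁻¹ * (y : G) * x * c = c * (x⁻¹ * y * x) from h]
      _ = _ := by group
  obtain ⟨e, he, hed, -⟩ := LargePrimes.exists_quot (p := 11) (U := zpowers (aT C))
    (by rw [Nat.card_zpowers, orderOf_aT])
  have h16 : 2 ^ 4 ∣ Nat.card ↥M * e := by
    rw [show Nat.card ↥M = Nat.card ↥(centralizer (zpowers (aT C) : Set G)) by rw [centralizer_zpowers], ← he]
    refine (show 2 ^ 4 ∣ Nat.card ↥(normalizer ((U : Subgroup G) : Set G)) from ?_).trans (card_dvd_of_le hNle)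
    rw [hN]
    exact ⟨3 * 5 * 11 ^ 3, by ring⟩
  refine not_four_dvd C ?_
  have he2 : 2 ^ 4 ∣ Nat.card ↥M * 10 := h16.trans (Nat.mul_dvd_mul_left _ (by simpa using hed))
  show 4 ∣ Nat.card ↥M
  omega

/-- The order of the centraliser. -/
theorem card_M_cases (Cp : PCtx C.z P) (hcard : Nat.card G = order4)
    (hbig : ∀ p ∈ bigs, ∀ U : Subgroup G, Nat.card ↥U = p → centralizer (U : Set G) = U)
    (h11 : ∀ U : Sylow 11 G, Cfsg.IsExtraspecial 11 ↥(U : Subgroup G) ∧ Nat.card ↥(U : Subgroup G) = 11 ^ 3 ∧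
      Nat.card ↥(normalizer ((U : Subgroup G) : Set G)) = 2 ^ 4 * 3 * 5 * 11 ^ 3) :
    Nat.card ↥(centralizer ({aT C} : Set G)) = 22 ∨ Nat.card ↥(centralizer ({aT C} : Set G)) = 242 := by
  set n := Nat.card ↥(centralizer ({aT C} : Set G)) with hn
  have hpos : 0 < n := Nat.card_pos
  have h2 : 2 ∣ n := by
    rw [← orderOf_eq_prime ((pow_two _).trans (tt_sq C)) (tt_ne_one C), hn,
      ← Subgroup.orderOf_mk (tt C) ((comm_cent_aT C).2 (aT_tt C).symm)]
    exact orderOf_dvd_natCard _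
  have h11' : 11 ∣ n := by
    rw [← orderOf_aT C, hn, ← Subgroup.orderOf_mk (aT C) ((comm_cent_aT C).2 rfl)]
    exact orderOf_dvd_natCard _
  have hsupp : ∀ r : ℕ, r.Prime → r ∣ n → r = 2 ∨ r = 11 := fun r hr hd => prime_cases C Cp hcard hbig hr hd
  obtain ⟨q, hq⟩ : 22 ∣ n := Nat.Coprime.mul_dvd_of_dvd_of_dvd (m := 2) (n := 11) (by norm_num) h2 h11'
  have hq4 : ¬ 2 ∣ q := fun ⟨c, hc⟩ => not_four_dvd C ⟨11 * c, by rw [← hn, hq, hc]; ring⟩
  have hq11 : ¬ 11 ^ 2 ∣ q := fun ⟨c, hc⟩ => not_cube_dvd C hcard h11 ⟨2 * c, by rw [← hn, hq, hc]; ring⟩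
  by_cases hq1 : q = 1
  · left; rw [hq, hq1]
  right
  obtain ⟨r, hr, hrq⟩ := Nat.exists_prime_and_dvd hq1
  obtain rfl : r = 11 := (hsupp r hr (hq ▸ Dvd.dvd.mul_left hrq 22)).resolve_left fun e => hq4 (e ▸ hrq)
  obtain ⟨c, hc⟩ := hrq
  by_cases hc1 : c = 1
  · rw [hq, hc, hc1]
  exfalso
  obtain ⟨s, hs, hsc⟩ := Nat.exists_prime_and_dvd hc1
  rcases hsupp s hs (hq ▸ Dvd.dvd.mul_left (hc ▸ Dvd.dvd.mul_left hsc 11) 22) with rfl | rfl
  · exact hq4 (hc ▸ Dvd.dvd.mul_left hsc 11)
  · exact hq11 (hc ▸ (pow_two 11).symm ▸ Nat.mul_dvd_mul_left 11 hsc)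

/-! ### The outer involution and the twist -/

/-- An involution inverting the lift of the translation and centralising that of the dilation. -/
theorem exists_outer (hbig : ∀ U : Subgroup G, Nat.card ↥U = 23 → centralizer (U : Set G) = U ∧
      Nat.card ↥(normalizer (U : Set G)) = 506) :
    ∃ j : G, j ∈ normalizer (zpowers (C.D.el trM) : Set G) ∧ j * j = 1 ∧
      j * C.D.el trM * j = (C.D.el trM)⁻¹ ∧ j * aT C = aT C * j := by
  haveI : Fact (Nat.Prime 2) := ⟨Nat.prime_two⟩
  haveI : Fact (Nat.Prime 23) := ⟨by norm_num⟩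
  set u := C.D.el trM
  have hu : orderOf u = 23 := (orderOf_injective (elHom C.D) (elHom_injective C) trM).trans orderOf_trM
  set U := zpowers u
  have hUc : Nat.card ↥U = 23 := by rw [Nat.card_zpowers, hu]
  obtain ⟨hC, hN⟩ := hbig U hUc
  obtain ⟨j0, hj0⟩ := exists_prime_orderOf_dvd_card' (G := ↥(normalizer (U : Set G))) 2 (by rw [hN]; norm_num)
  rw [← Subgroup.orderOf_coe] at hj0
  set j : G := (j0 : G)
  have hjj : j * j = 1 := by rw [← pow_two, ← hj0, pow_orderOf_eq_one]
  have hji : j⁻¹ = j := inv_eq_of_mul_eq_one_right hjj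
  have hnotU : ∀ x : G, orderOf x = 2 → x ∉ U := fun x hx h => by
    have := orderOf_dvd_natCard (⟨x, h⟩ : ↥U)
    rw [Subgroup.orderOf_mk, hx, hUc] at this
    norm_num at this
  -- it inverts
  have hinv : j * u * j = u⁻¹ := by
    obtain ⟨k, hk⟩ := (mem_normalizer_iff.1 j0.2 u).1 (mem_zpowers u)
    have hk' : u ^ k = j * u * j⁻¹ := hk
    have hkk : u ^ (k * k) = u := by
      rw [zpow_mul, hk', conj_zpow, hk', hji]
      calc j * (j * u * j) * j = (j * j) * u * (j * j) := by group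
        _ = u := by rw [hjj, one_mul, mul_one]
    have hd : (23 : ℤ) ∣ (k - 1) * (k + 1) := by
      have h1 : u ^ ((k - 1) * (k + 1)) = 1 := by
        rw [show (k - 1) * (k + 1) = k * k - 1 by ring, zpow_sub, hkk, zpow_one, mul_inv_cancel]
      have := orderOf_dvd_iff_zpow_eq_one.2 h1
      rwa [hu] at this
    rcases (Nat.prime_iff_prime_int.1 (by norm_num : Nat.Prime 23)).dvd_or_dvd hd with h | h
    · exfalso
      have e : u ^ (k - 1) = 1 := orderOf_dvd_iff_zpow_eq_one.1 (by rw [hu]; exact h)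
      rw [zpow_sub, zpow_one, hk', mul_inv_eq_one, mul_inv_eq_iff_eq_mul] at e
      refine hnotU j hj0 ?_
      rw [← hC, centralizer_zpowers]
      exact mem_centralizer_singleton_iff.2 e
    · have e : u ^ (k + 1) = 1 := orderOf_dvd_iff_zpow_eq_one.1 (by rw [hu]; exact h)
      rw [zpow_add, zpow_one, mul_eq_one_iff_eq_inv, hk', hji] at e
      exact e
  have hTu : aT C * u * (aT C)⁻¹ = u * u := by
    simp only [aT, u]
    rw [← C.D.el_inv, ← C.D.el_mul, ← C.D.el_mul, dil_conj, C.D.el_mul]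
  -- correct it by a translation
  set x := j * aT C * j * (aT C)⁻¹ with hx
  have hxc : x * u = u * x := by
    have h1 : (aT C)⁻¹ * (u * u) * aT C = u := by rw [← hTu]; group
    have h2 : j * u⁻¹ * j = u := by
      rw [← inv_inj, mul_inv_rev, mul_inv_rev, hji, inv_inv, ← mul_assoc, hinv]
    rw [← mul_inv_eq_iff_eq_mul]
    have hTi : (aT C)⁻¹ * u * aT C = u ^ 12 := by
      have h23 : u ^ 23 = 1 := hu ▸ pow_orderOf_eq_one u
      calc (aT C)⁻¹ * u * aT C = (aT C)⁻¹ * (u * u) ^ 12 * aT C := by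
            rw [← pow_two, ← pow_mul, show 2 * 12 = 23 + 1 by rfl, pow_succ, h23, one_mul]
        _ = ((aT C)⁻¹ * (u * u) * ((aT C)⁻¹)⁻¹) ^ 12 := by rw [conj_pow, inv_inv]
        _ = ((aT C)⁻¹ * (u * u) * aT C) ^ 12 := by rw [inv_inv]
        _ = u ^ 12 := by rw [h1]
    calc x * u * x⁻¹ = j * aT C * (j * ((aT C)⁻¹ * u * aT C) * j⁻¹) * (aT C)⁻¹ * j⁻¹ := by
          simp only [hx, mul_inv_rev, inv_inv]; group
      _ = j * aT C * (u⁻¹) ^ 12 * (aT C)⁻¹ * j⁻¹ := by rw [hTi, ← conj_pow, hji, hinv]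
      _ = j * (aT C * u⁻¹ * (aT C)⁻¹) ^ 12 * j⁻¹ := by rw [conj_pow]; group
      _ = j * ((u⁻¹) ^ 2) ^ 12 * j := by rw [← conj_inv, hTu, mul_inv_rev, ← pow_two, hji]
      _ = j * u⁻¹ * j := by
          rw [← pow_mul, show 2 * 12 = 23 + 1 by rfl, pow_succ, inv_pow u 23,
            show u ^ 23 = 1 from hu ▸ pow_orderOf_eq_one u, inv_one, one_mul]
      _ = u := h2
  have hxU : x ∈ U := by
    rw [← hC, centralizer_zpowers]
    exact mem_centralizer_singleton_iff.2 hxc
  obtain ⟨a, ha⟩ := hxU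
  have ha' : u ^ a = x := ha
  have hja : ∀ b : ℤ, j * u ^ b * j = u ^ (-b) := fun b => by
    calc j * u ^ b * j = j * u ^ b * j⁻¹ := by rw [hji]
      _ = (j * u * j⁻¹) ^ b := conj_zpow.symm
      _ = _ := by rw [hji, hinv, inv_zpow']
  have hTa : ∀ b : ℤ, aT C * u ^ b = u ^ (2 * b) * aT C := fun b => by
    rw [← mul_inv_eq_iff_eq_mul, ← conj_zpow, hTu, zpow_mul, zpow_two]
  refine ⟨u ^ a * j, mul_mem (zpow_mem (le_normalizer (mem_zpowers u)) a) j0.2, ?_, ?_, ?_⟩
  · calc u ^ a * j * (u ^ a * j) = u ^ a * (j * u ^ a * j) := by group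
      _ = 1 := by rw [hja, ← zpow_add, add_neg_cancel, zpow_zero]
  · calc u ^ a * j * u * (u ^ a * j) = u ^ a * (j * u ^ (1 + a) * j) := by rw [zpow_add, zpow_one]; group
      _ = u⁻¹ := by rw [hja, ← zpow_add, show a + -(1 + a) = -1 by ring, zpow_neg_one]
  · have h1 : j * aT C = x * aT C * j := by
      rw [hx]
      calc j * aT C = j * aT C * (j * j) := by rw [hjj, mul_one]
        _ = _ := by group
    calc u ^ a * j * aT C = u ^ a * (x * aT C * j) := by rw [mul_assoc, h1]
      _ = u ^ (2 * a) * aT C * j := by rw [← ha', two_mul, zpow_add]; group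
      _ = aT C * (u ^ a * j) := by rw [← hTa]; group

/-- The twist by the duad at the extra point. -/
noncomputable def twist : ↥M24 →* G :=
  MonoidHom.mk' (fun σ => C.M.phi (GolayModule.pair none ((σ : Equiv.Perm GolayPt) none)) * C.D.el σ) fun σ τ => by
    have e : GolayModule.pair none (((σ * τ : ↥M24) : Equiv.Perm GolayPt) none) =
        GolayModule.pair none ((σ : Equiv.Perm GolayPt) none) + sh σ (GolayModule.pair none ((τ : Equiv.Perm GolayPt) none)) := by
      rw [sh_pair, Subgroup.coe_mul, Equiv.Perm.mul_apply, pair_swap none ((σ : Equiv.Perm GolayPt) none),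
        pair_add_pair]
    rw [e, C.M.map_add, ← C.M.equiv σ _ (ev_pair _ _), C.D.el_mul]
    group

theorem twist_apply (σ : ↥M24) :
    twist C σ = C.M.phi (GolayModule.pair none ((σ : Equiv.Perm GolayPt) none)) * C.D.el σ := rfl

theorem twist_fix {σ : ↥M24} (h : (σ : Equiv.Perm GolayPt) none = none) : twist C σ = C.D.el σ := by
  rw [twist_apply, h, (C.M.ker _ (ev_pair none none)).2 (by rw [GolayModule.pair, GolayModule.add_self_word]; exact zero_mem _),
    one_mul]

theorem twist_mem (σ : ↥M24) : twist C σ ∈ normalizer (C.D.V : Set G) :=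
  mul_mem (le_normalizer (C.M.mem _)) (C.D.el_norm σ)

theorem twist_injective : Function.Injective (twist C) := by
  refine (injective_iff_map_eq_one _).2 fun σ h => C.el_eq_one ?_
  rw [twist_apply, mul_eq_one_iff_inv_eq] at h
  exact h ▸ inv_mem (C.M.mem _)

theorem inv_tt : C.D.el invM * tt C = tt C * C.D.el invM := by
  rw [← mul_inv_eq_iff_eq_mul, tt, C.M.equiv _ _ (ev_pair _ _), sh_pair]
  show C.M.phi (GolayModule.pair (Cfsg.projInv none) (Cfsg.projInv (some 0))) = _
  rw [pair_swap]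
  rfl

/-- **The embedding and the outer involution.** -/
theorem exists_twist (Cp : PCtx C.z P) (hcard : Nat.card G = order4)
    (hbig : ∀ p ∈ bigs, ∀ U : Subgroup G, Nat.card ↥U = p → centralizer (U : Set G) = U)
    (h23 : ∀ U : Subgroup G, Nat.card ↥U = 23 → Nat.card ↥(normalizer (U : Set G)) = 506)
    (h11 : ∀ U : Sylow 11 G, Cfsg.IsExtraspecial 11 ↥(U : Subgroup G) ∧ Nat.card ↥(U : Subgroup G) = 11 ^ 3 ∧
      Nat.card ↥(normalizer ((U : Subgroup G) : Set G)) = 2 ^ 4 * 3 * 5 * 11 ^ 3) :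
    ∃ (φ : ↥line →* G) (j : G), Function.Injective φ ∧ j * j = 1 ∧ j ∉ φ.range ∧
      (∀ a : ↥line, (a : Equiv.Perm GolayPt) = tr → j * φ a * j = (φ a)⁻¹) ∧
      (∀ a : ↥line, (a : Equiv.Perm GolayPt) = dilTwo → j * φ a * j = φ a) ∧
      ∀ a : ↥line, (a : Equiv.Perm GolayPt) = Cfsg.projInv → j * φ a * j = φ a := by
  haveI : Fact (Nat.Prime 11) := ⟨by norm_num⟩
  haveI : Fact (Nat.Prime 2) := ⟨Nat.prime_two⟩
  obtain ⟨j, hjN, hjj, hju, hjT⟩ := exists_outer C fun U hU =>
    ⟨hbig 23 (by simp [bigs]) U hU, h23 U hU⟩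
  set u := C.D.el trM
  set T := aT C
  set t := tt C
  set w := C.D.el invM
  have hji : j⁻¹ = j := inv_eq_of_mul_eq_one_right hjj
  have hti : t⁻¹ = t := inv_eq_of_mul_eq_one_right (tt_sq C)
  have hu23 : orderOf u = 23 := (orderOf_injective (elHom C.D) (elHom_injective C) trM).trans orderOf_trM
  have hj1 : j ≠ 1 := by
    intro e
    rw [e, one_mul, mul_one] at hju
    have : u ^ 2 = 1 := by rw [pow_two]; exact mul_eq_one_iff_eq_inv.2 hju
    have := orderOf_dvd_of_pow_eq_one this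
    rw [hu23] at this
    norm_num at this
  -- the involution is outside the normaliser of `V`
  have hjNV : ∀ σ : ↥M24, ∀ v ∈ C.D.V, j ≠ v * C.D.el σ := by
    intro σ v hv e
    have hcalc : C.D.el (σ * trM * σ⁻¹ * trM) ∈ C.D.V := by
      have hjn : C.D.el σ = v⁻¹ * j := by rw [e]; group
      rw [C.D.el_mul, C.D.el_mul, C.D.el_mul, C.D.el_inv, hjn, mul_inv_rev, inv_inv, hji,
        show v⁻¹ * j * u * (j * v) * u = v⁻¹ * ((j * u * j) * v * u) by group, hju]
      exact mul_mem (inv_mem hv) (by simpa using C.D.conj_mem (inv_mem (C.D.el_norm trM)) hv)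
    have h1 : σ * trM * σ⁻¹ * trM = 1 := C.el_eq_one hcalc
    have hcalc2 : C.D.el (σ * dilM * σ⁻¹ * dilM⁻¹) ∈ C.D.V := by
      have hjn : C.D.el σ = v⁻¹ * j := by rw [e]; group
      have hjTj : j * T * j = T := by rw [hjT, mul_assoc, hjj, mul_one]
      rw [C.D.el_mul, C.D.el_mul, C.D.el_mul, C.D.el_inv, C.D.el_inv, hjn, mul_inv_rev, inv_inv, hji, ← aT,
        show v⁻¹ * j * T * (j * v) * T⁻¹ = v⁻¹ * ((j * T * j) * v * T⁻¹) by group, hjTj]
      exact mul_mem (inv_mem hv) (C.D.conj_mem (C.D.el_norm dilM) hv)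
    have h2 : σ * dilM = dilM * σ := mul_inv_eq_iff_eq_mul.1 (mul_inv_eq_one.1 (C.el_eq_one hcalc2))
    obtain ⟨i, hi⟩ := centralizer_dilTwo h2
    have hσ11 : σ ^ 11 = 1 := by
      rw [← hi, ← zpow_natCast, ← zpow_mul, mul_comm, zpow_mul, zpow_natCast, ← orderOf_dilM, pow_orderOf_eq_one,
        one_zpow]
    have hσt : σ * trM * σ⁻¹ = trM⁻¹ := mul_eq_one_iff_eq_inv.1 h1
    have hpow : ∀ n : ℕ, σ ^ (2 * n + 1) * trM * (σ ^ (2 * n + 1))⁻¹ = trM⁻¹ := by
      intro n
      induction n with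
      | zero => simpa using hσt
      | succ n ih =>
        rw [show 2 * (n + 1) + 1 = 2 * n + 1 + 1 + 1 by ring, pow_succ' σ (2 * n + 1 + 1), pow_succ' σ (2 * n + 1)]
        calc _ = σ * (σ * (σ ^ (2 * n + 1) * trM * (σ ^ (2 * n + 1))⁻¹) * σ⁻¹) * σ⁻¹ := by group
          _ = σ * (σ * trM * σ⁻¹)⁻¹ * σ⁻¹ := by rw [ih]; group
          _ = _ := by rw [hσt, inv_inv, hσt]
    have h11' := hpow 5
    rw [show 2 * 5 + 1 = 11 from rfl, hσ11, one_mul, inv_one, mul_one] at h11'
    have h3 : trM ^ 2 = 1 := by rw [pow_two]; exact mul_eq_one_iff_eq_inv.2 h11'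
    have := orderOf_dvd_of_pow_eq_one h3
    rw [orderOf_trM] at this
    norm_num at this
  -- the centraliser of the lift of the dilation
  set M := centralizer ({T} : Set G)
  have hjM : j ∈ M := (comm_cent_aT C).2 hjT
  have htM : t ∈ M := (comm_cent_aT C).2 (aT_tt C).symm
  have hne : t * j ≠ j * t := by
    intro hc
    have hjV := cent_tt_le C (mem_centralizer_singleton_iff.2 hc.symm)
    obtain ⟨v, hv, k, e⟩ := C.D.exists_mul hjV
    exact hjNV (C.D.e k) v hv (by rw [e]; simp [SplitData.el])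
  have h242 : Nat.card ↥M = 242 := by
    refine (card_M_cases C Cp hcard hbig h11).resolve_left fun h22 => hne ?_
    have hle : M ⊓ centralizer ({t} : Set G) ≤ M := inf_le_left
    have h11d : 11 ∣ Nat.card ↥(M ⊓ centralizer ({t} : Set G)) := by
      rw [← orderOf_aT C, ← Subgroup.orderOf_mk T (Subgroup.mem_inf.2
        ⟨(comm_cent_aT C).2 rfl, mem_centralizer_singleton_iff.2 (aT_tt C)⟩)]
      exact orderOf_dvd_natCard _
    have h2d : 2 ∣ Nat.card ↥(M ⊓ centralizer ({t} : Set G)) := by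
      rw [← orderOf_eq_prime ((pow_two _).trans (tt_sq C)) (tt_ne_one C),
        ← Subgroup.orderOf_mk t (Subgroup.mem_inf.2 ⟨htM, mem_centralizer_singleton_iff.2 rfl⟩)]
      exact orderOf_dvd_natCard _
    have heq := eq_of_le_of_card_ge hle (h22 ▸ Nat.le_of_dvd Nat.card_pos
      (Nat.Coprime.mul_dvd_of_dvd_of_dvd (m := 2) (n := 11) (by norm_num) h2d h11d))
    have := hjM
    rw [← heq] at this
    exact (mem_centralizer_singleton_iff.1 (Subgroup.mem_inf.1 this).2).symm
  obtain ⟨Q, hQ⟩ := Sylow.exists_subgroup_card_pow_prime (G := ↥M) 11 (n := 2) (by rw [h242]; norm_num)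
  haveI := IsPGroup.isMulCommutative_of_card_eq_prime_sq (p := 11) hQ
  have hQi : Q.index = 2 := by
    have := Q.card_mul_index
    rw [hQ, h242] at this
    omega
  haveI := Subgroup.normal_of_index_eq_two hQi
  have hQodd : ∀ q : ↥M, q ^ 11 = 1 → q ∈ Q := fun q hq => by
    have h2 : q ^ 2 ∈ Q := Subgroup.sq_mem_of_index_two hQi q
    have e : q = q ^ 11 * ((q ^ 2) ^ 5)⁻¹ := by rw [← pow_mul]; group
    rw [e, hq, one_mul]
    exact inv_mem (pow_mem h2 5)
  have hQ2 : ∀ q : ↥M, q ∈ Q → q * q = 1 → q = 1 := fun q hq h => by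
    have hd := orderOf_dvd_natCard (⟨q, hq⟩ : ↥Q)
    rw [Subgroup.orderOf_mk, hQ] at hd
    have h1 : orderOf q ∣ Nat.gcd 2 (11 ^ 2) := Nat.dvd_gcd (orderOf_dvd_of_pow_eq_one ((pow_two q).trans h)) hd
    rw [show Nat.gcd 2 (11 ^ 2) = 1 by norm_num, Nat.dvd_one, orderOf_eq_one_iff] at h1
    exact h1
  set t' : ↥M := ⟨t, htM⟩
  set j' : ↥M := ⟨j, hjM⟩
  set T' : ↥M := ⟨T, (comm_cent_aT C).2 rfl⟩
  have htQ : t' ∉ Q := fun h => tt_ne_one C (congrArg Subtype.val (hQ2 t' h (Subtype.ext (tt_sq C))))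
  have hjQ : j' ∉ Q := fun h => hj1 (congrArg Subtype.val (hQ2 j' h (Subtype.ext hjj)))
  let ι : ↥M →* ↥M := (MulAut.conj t').toMonoidHom
  let Dn : Subgroup ↥M :=
    { carrier := {q | q ∈ Q ∧ ι q = q⁻¹}
      one_mem' := ⟨one_mem _, by simp⟩
      mul_mem' := by
        rintro a b ⟨ha, ha'⟩ ⟨hb, hb'⟩
        refine ⟨mul_mem ha hb, ?_⟩
        rw [map_mul, ha', hb', ← mul_inv_rev, setLike_mul_comm hb ha]
      inv_mem' := by
        rintro a ⟨ha, ha'⟩
        exact ⟨inv_mem ha, by rw [map_inv, ha']⟩ }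
  set d : ↥M := j' * t'
  have hdQ : d ∈ Q := (Subgroup.mul_mem_iff_of_index_two hQi).2 (iff_of_false hjQ htQ)
  have hdD : d ∈ Dn := by
    refine ⟨hdQ, Subtype.ext ?_⟩
    show t * (j * t) * t⁻¹ = (j * t)⁻¹
    rw [mul_inv_rev, hti, hji, mul_assoc t, mul_assoc j, tt_sq C, mul_one]
  have hDcard : Nat.card ↥Dn ≤ 11 := by
    have hTQ : T' ∈ Q := hQodd T' (Subtype.ext (by
      show T ^ 11 = 1
      rw [← orderOf_aT C, pow_orderOf_eq_one]))
    have hinj : Function.Injective fun p : ↥Dn × ↥(zpowers T') =>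
        (⟨(p.1 : ↥M) * p.2, mul_mem p.1.2.1 (zpowers_le.2 hTQ p.2.2)⟩ : ↥Q) := by
      rintro ⟨a, b⟩ ⟨a', b'⟩ e
      have e' : (a : ↥M) * b = a' * b' := congrArg Subtype.val e
      have h1 : (a' : ↥M)⁻¹ * a = b' * (b : ↥M)⁻¹ := by
        rw [inv_mul_eq_iff_eq_mul, ← mul_assoc, ← e', mul_inv_cancel_right]
      have hq : ((a' : ↥M)⁻¹ * a) = 1 := by
        set q := (a' : ↥M)⁻¹ * a with hqd
        have hqD : q ∈ Dn := mul_mem (inv_mem a'.2) a.2
        obtain ⟨k, hk⟩ : q ∈ zpowers T' := h1 ▸ mul_mem b'.2 (inv_mem b.2)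
        have hfix : ι q = q := by
          have ht' : Commute t' T' := Subtype.ext (aT_tt C).symm
          show t' * q * t'⁻¹ = q
          rw [← hk, (ht'.zpow_right k).eq, mul_inv_cancel_right]
        refine hQ2 q hqD.1 ?_
        rw [hqD.2] at hfix
        exact mul_eq_one_iff_eq_inv.2 hfix.symm
      have hab : a = a' := Subtype.ext (inv_mul_eq_one.1 hq).symm
      subst hab
      exact Prod.ext rfl (Subtype.ext (mul_left_cancel e'))
    have := Nat.card_le_card_of_injective _ hinj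
    rw [Nat.card_prod, Nat.card_zpowers, hQ, show orderOf T' = 11 from (Subgroup.orderOf_mk _ _).trans (orderOf_aT C)] at this
    omega
  have hd1 : d ≠ 1 := fun h => hne (by
    have h' : j * t = 1 := congrArg Subtype.val h
    rw [mul_eq_one_iff_eq_inv, hti] at h'
    rw [h'])
  have hDd : ∀ q ∈ Dn, q ∈ zpowers d := by
    intro q hq
    obtain ⟨k, hk, hkc⟩ := (Nat.dvd_prime_pow (by norm_num : Nat.Prime 11)).1
      (hQ ▸ card_dvd_of_le (show Dn ≤ Q from fun x hx => hx.1))
    have hk1 : k = 1 := by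
      rcases k with - | - | k
      · exact absurd (congrArg Subtype.val (((Nat.card_eq_one_iff_unique.1 (by simpa using hkc)).1).elim
          (⟨d, hdD⟩ : ↥Dn) 1)) hd1
      · rfl
      · exfalso
        have : 11 ^ 2 ≤ 11 ^ (k + 1 + 1) := Nat.pow_le_pow_right (by norm_num) (by omega)
        omega
    subst hk1
    rw [pow_one] at hkc
    have h' := mem_zpowers_of_prime_card (g := (⟨d, hdD⟩ : ↥Dn)) hkc
      (g' := ⟨q, hq⟩) fun e => hd1 (congrArg Subtype.val e)
    obtain ⟨i, hi⟩ := h'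
    exact ⟨i, congrArg Subtype.val hi⟩
  -- the inversion and its action
  have hwt : w * t = t * w := inv_tt C
  have hww : w * w = 1 := by rw [← C.D.el_mul, inv_sq, C.el_one]
  have hwi : w⁻¹ = w := inv_eq_of_mul_eq_one_right hww
  have hwT : w * T * w = T⁻¹ := by
    calc w * T * w = w * T * w⁻¹ := by rw [hwi]
      _ = _ := by simp only [w, T, aT]; rw [← C.D.el_inv, ← C.D.el_mul, ← C.D.el_mul, inv_conj, C.D.el_inv]
  have hwM : ∀ x ∈ M, w * x * w ∈ M := fun x hx => by
    refine (comm_cent_aT C).2 ?_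
    have hx' : Commute x T⁻¹ := (show Commute x T from (comm_cent_aT C).1 hx).inv_right
    calc w * x * w * T = w * (x * (w * T * w)) * w := by
          simp only [mul_assoc]; rw [hww, mul_one]
      _ = w * (T⁻¹ * x) * w := by rw [hwT, hx'.eq]
      _ = (w * T⁻¹ * w) * (w * x * w) := by simp only [mul_assoc]; rw [← mul_assoc w w, hww, one_mul]
      _ = _ := by rw [show w * T⁻¹ * w = (w * T * w)⁻¹ by rw [mul_inv_rev, mul_inv_rev, hwi, mul_assoc], hwT, inv_inv]
  have hwd : ∃ k : ℤ, w * (j * t) * w = (j * t) ^ k := by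
    have hmem : (⟨w * (j * t) * w, hwM _ (mul_mem hjM htM)⟩ : ↥M) ∈ Dn := by
      have hd11 : (j * t) ^ 11 = 1 := by
        have h11d := orderOf_dvd_natCard (⟨d, hdD⟩ : ↥Dn)
        obtain ⟨k, -, hkc⟩ := (Nat.dvd_prime_pow (by norm_num : Nat.Prime 11)).1
          (hQ ▸ card_dvd_of_le (show Dn ≤ Q from fun x hx => hx.1))
        rw [hkc, Subgroup.orderOf_mk] at h11d
        have hk1 : k ≤ 1 := by
          by_contra hlt
          have : 11 ^ 2 ≤ 11 ^ k := Nat.pow_le_pow_right (by norm_num) (by omega)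
          omega
        exact congrArg Subtype.val (orderOf_dvd_iff_pow_eq_one.1
          (h11d.trans (by interval_cases k <;> norm_num)) : d ^ 11 = 1)
      refine ⟨hQodd _ (Subtype.ext ?_), Subtype.ext ?_⟩
      · show (w * (j * t) * w) ^ 11 = 1
        calc (w * (j * t) * w) ^ 11 = (w * (j * t) * w⁻¹) ^ 11 := by rw [hwi]
          _ = 1 := by rw [conj_pow, hd11, mul_one, mul_inv_cancel]
      · show t * (w * (j * t) * w) * t⁻¹ = (w * (j * t) * w)⁻¹
        rw [mul_inv_rev, mul_inv_rev, mul_inv_rev, hti, hji, hwi]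
        calc t * (w * (j * t) * w) * t = (t * w) * j * (t * w * t) := by group
          _ = (w * t) * j * (w * t * t) := by rw [hwt]
          _ = _ := by rw [mul_assoc w t t, tt_sq C, mul_one]; group
    obtain ⟨k, hk⟩ := hDd _ hmem
    exact ⟨k, (congrArg Subtype.val hk).symm.trans (by simp [d, j', t'])⟩
  -- one of the two inversions fixes the involution
  have hcase : j * w * j = w ∨ j * (t * w) * j = t * w := by
    obtain ⟨k, hk⟩ := hwd
    set dd := j * t
    have hkk : dd ^ (k * k) = dd := by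
      rw [zpow_mul, ← hk, show w * dd * w = w * dd * w⁻¹ by rw [hwi], conj_zpow, ← hk]
      calc w * (w * dd * w) * w⁻¹ = (w * w) * dd * (w * w⁻¹) := by group
        _ = dd := by rw [hww, one_mul, mul_inv_cancel, mul_one]
    have hdd1 : dd ≠ 1 := fun h => hd1 (Subtype.ext h)
    have hdd11 : orderOf dd = 11 := by
      have h' := orderOf_dvd_natCard (⟨d, hdQ⟩ : ↥Q)
      rw [Subgroup.orderOf_mk, hQ, ← Subgroup.orderOf_coe] at h'
      obtain ⟨i, hi, hie⟩ := (Nat.dvd_prime_pow (by norm_num : Nat.Prime 11)).1 h'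
      have hi2 : orderOf dd ≤ 11 := by
        have h'' := orderOf_dvd_natCard (⟨d, hdD⟩ : ↥Dn)
        rw [Subgroup.orderOf_mk, ← Subgroup.orderOf_coe] at h''
        exact (Nat.le_of_dvd Nat.card_pos h'').trans hDcard
      rw [show orderOf dd = 11 ^ i from hie] at hi2 ⊢
      rcases i with - | - | i
      · exact absurd (orderOf_eq_one_iff.1 hie) hdd1
      · rfl
      · exfalso
        have : 11 ^ 2 ≤ 11 ^ (i + 1 + 1) := Nat.pow_le_pow_right (by norm_num) (by omega)
        omega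
    have hd' : (11 : ℤ) ∣ (k - 1) * (k + 1) := by
      have h1 : dd ^ ((k - 1) * (k + 1)) = 1 := by
        rw [show (k - 1) * (k + 1) = k * k - 1 by ring, zpow_sub, hkk, zpow_one, mul_inv_cancel]
      have := orderOf_dvd_iff_zpow_eq_one.2 h1
      rwa [hdd11] at this
    rcases (Nat.prime_iff_prime_int.1 (by norm_num : Nat.Prime 11)).dvd_or_dvd hd' with h | h
    · left
      have e : dd ^ (k - 1) = 1 := orderOf_dvd_iff_zpow_eq_one.1 (by rw [hdd11]; exact h)
      rw [zpow_sub, zpow_one, mul_inv_eq_one, ← hk] at e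
      -- `w` fixes `j t` and `t`
      have e2 : w * j * w = j := by
        refine mul_right_cancel (b := t) ?_
        calc w * j * w * t = w * j * (w * t) := by group
          _ = w * (j * t) * w := by rw [hwt]; group
          _ = j * t := e
      calc j * w * j = j * (w * j * w) * w := by
            simp only [mul_assoc]; rw [hww, mul_one]
        _ = w := by rw [e2, hjj, one_mul]
    · right
      have e : dd ^ (k + 1) = 1 := orderOf_dvd_iff_zpow_eq_one.1 (by rw [hdd11]; exact h)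
      rw [zpow_add, zpow_one, mul_eq_one_iff_eq_inv, ← hk, mul_inv_rev, hti, hji] at e
      have e2 : (t * w) * j * (t * w) = j := by
        refine mul_right_cancel (b := t) ?_
        calc t * w * j * (t * w) * t = t * (w * (j * t) * w) * t := by group
          _ = t * (t * j) * t := by rw [e]
          _ = j * t := by rw [← mul_assoc t t, tt_sq C, one_mul]
      have htw : (t * w) * (t * w) = 1 := by
        calc t * w * (t * w) = t * (w * t) * w := by group
          _ = (t * t) * (w * w) := by rw [hwt]; group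
          _ = 1 := by rw [tt_sq C, hww, mul_one]
      calc j * (t * w) * j = j * ((t * w) * j * (t * w)) * (t * w) := by
            rw [show j * (t * w * j * (t * w)) * (t * w) = j * (t * w) * j * ((t * w) * (t * w)) by group, htw, mul_one]
        _ = t * w := by rw [e2, hjj, one_mul]
  have hTf : j * T * j = T := by rw [hjT, mul_assoc, hjj, mul_one]
  have key : ∀ ψ : ↥M24 →* G, Function.Injective ψ → (∀ σ, ∃ v ∈ C.D.V, ψ σ = v * C.D.el σ) → ψ trM = u →
      ψ dilM = T → (j * ψ invM * j = ψ invM) →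
      ∃ (φ : ↥line →* G) (j : G), Function.Injective φ ∧ j * j = 1 ∧ j ∉ φ.range ∧
        (∀ a : ↥line, (a : Equiv.Perm GolayPt) = tr → j * φ a * j = (φ a)⁻¹) ∧
        (∀ a : ↥line, (a : Equiv.Perm GolayPt) = dilTwo → j * φ a * j = φ a) ∧
        ∀ a : ↥line, (a : Equiv.Perm GolayPt) = Cfsg.projInv → j * φ a * j = φ a := by
    intro ψ hψ hform hu' hT' hw'
    refine ⟨ψ.comp (inclusion line_le), j, hψ.comp (inclusion_injective line_le), hjj, ?_, ?_, ?_, ?_⟩
    · rintro ⟨a, ha⟩
      obtain ⟨v, hv, e⟩ := hform (inclusion line_le a)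
      exact hjNV _ v hv (ha.symm.trans e)
    · intro a ha
      rw [MonoidHom.comp_apply, show inclusion line_le a = trM from Subtype.ext ha, hu']
      exact hju
    · intro a ha
      rw [MonoidHom.comp_apply, show inclusion line_le a = dilM from Subtype.ext ha, hT']
      exact hTf
    · intro a ha
      rw [MonoidHom.comp_apply, show inclusion line_le a = invM from Subtype.ext ha]
      exact hw'
  rcases hcase with h | h
  · exact key (elHom C.D) (elHom_injective C) (fun σ => ⟨1, one_mem _, (one_mul _).symm⟩) rfl rfl h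
  · refine key (twist C) (twist_injective C) (fun σ => ⟨_, C.M.mem _, twist_apply C σ⟩)
      (twist_fix C perm_facts.2.2.2.1) (twist_fix C perm_facts.2.2.2.2.1) ?_
    rw [show twist C invM = t * w from rfl]
    exact h

end Cfsg.Agent.J4Type.PGL
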